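import Groth.Agent.L22.Chern.Segre
import Groth.Agent.L22.Bundle.Span
import Groth.Agent.L22.ZeroLocus.Main
import Mathlib.RingTheory.PowerSeries.Basic

/-!
Detecting classes on a projective bundle by push-forwards, and the Segre series.
-/

set_option autoImplicit false
set_option linter.style.haveILetI false
set_option linter.unusedSectionVars false
set_option backward.isDefEq.respectTransparency.types false
set_option backward.isDefEq.respectTransparency false

universe u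

open CategoryTheory CategoryTheory.Limits AlgebraicGeometry TopologicalSpace
open Groth.L22.Chern

noncomputable section

namespace Groth.L22.SubBundle

/-- The fundamental cycle pulls back to the fundamental cycle. -/
theorem fund_flat {X P : Scheme.{u}} [IsLocallyNoetherian X] [IsLocallyNoetherian P] (π : P ⟶ X) [Flat π]
    [LocallyOfFiniteType π] {d : ℕ} (hr : Cyc.HasRelDim π d) {δ : X → ℤ} {δP : P → ℤ} (hdP : Cyc.IsDimFun P δP)
    (hc : Cyc.DeltaCompat π δP δ) (hs : Shift π δP δ (d : ℤ)) {n : ℤ} (hn : ∀ x, δ x ≤ n)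
    {α : AlgebraicCycle X ℤ} (hα : ⇑α = Cyc.subschemeFun δ n (𝟙 X)) :
    ⇑(pullC π hs α) = Cyc.subschemeFun δP (n + (d : ℤ)) (𝟙 P) := funext fun x => by
  have hfib := Groth.L22.ZeroLocus.delta_fibre π hr hdP hc
  rw [Groth.L22.C1.subschemeFun_id]
  by_cases hx : δP x = n + (d : ℤ)
  · have h1 := (hfib x).1
    have h2 := hn (π x)
    rw [if_pos hx, pullC_apply, hα, Groth.L22.C1.subschemeFun_id, if_pos (by omega), ← Nat.cast_mul, ← ENat.toNat_mul]
    have h := Groth.L22.ZeroLocus.length_map π x ⊥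
    rw [Ideal.map_bot, (Submodule.quotEquivOfEqBot (⊥ : Submodule (P.presheaf.stalk x) (P.presheaf.stalk x)) rfl).length_eq,
      (Submodule.quotEquivOfEqBot (⊥ : Submodule (X.presheaf.stalk (π x)) (X.presheaf.stalk (π x))) rfl).length_eq] at h
    rw [h]
  · rw [if_neg hx]
    exact pullC_mem π hs (Groth.L22.ZeroLocus.fund_mem hα) x hx

section Closed

variable {Q P X : Scheme.{u}} [IsLocallyNoetherian Q] [IsLocallyNoetherian P] [IsLocallyNoetherian X] (h : Q ⟶ P)
  [IsClosedImmersion h] (δP : P → ℤ)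

theorem pushC_apply_closed (A : AlgebraicCycle Q ℤ) (y : Q) : pushC h (fun d => δP (h d)) δP A (h y) = A y :=
  Groth.L22.C1.map_apply_closedImmersion h δP A y

theorem pushC_outside (A : AlgebraicCycle Q ℤ) {x : P} (hx : x ∉ Set.range h) :
    pushC h (fun d => δP (h d)) δP A x = 0 := by
  by_contra hne
  exact hx (Groth.L22.C1.mem_range_of_map_ne_zero h δP A hne)

theorem fund_push {k : ℤ} {Φ : AlgebraicCycle Q ℤ} (hΦ : ⇑Φ = Cyc.subschemeFun (fun d => δP (h d)) k (𝟙 Q))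
    {ζ : AlgebraicCycle P ℤ} (hζ : ⇑ζ = Cyc.subschemeFun δP k h) : pushC h (fun d => δP (h d)) δP Φ = ζ := by
  ext x
  rw [hζ]
  unfold Cyc.subschemeFun
  by_cases hx : x ∈ Set.range h
  · obtain ⟨y, rfl⟩ := hx
    rw [pushC_apply_closed, hΦ, Groth.L22.C1.subschemeFun_id]
    refine if_congr Iff.rfl ?_ rfl
    rw [show {z : Q | h z = h y} = {y} from Set.ext fun z => ⟨fun e => h.isClosedEmbedding.injective e,
      fun e => by rw [Set.mem_singleton_iff.1 e]; rfl⟩, finsum_mem_singleton]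
  · rw [pushC_outside h δP Φ hx]
    split_ifs
    · rw [show {z : Q | h z = x} = ∅ from Set.eq_empty_iff_forall_notMem.2 fun z hz => hx ⟨z, hz⟩, finsum_mem_empty]
    · rfl

theorem pushC_comp_closed (p : P ⟶ X) [IsProper p] (p'' : Q ⟶ X) [IsProper p''] (hh : h ≫ p = p'') (δ : X → ℤ)
    (A : AlgebraicCycle Q ℤ) :
    pushC p δP δ (pushC h (fun d => δP (h d)) δP A) = pushC p'' (fun d => δP (h d)) δ A := by
  subst hh
  ext x
  show (∑ᶠ z ∈ p ⁻¹' {x}, pushC h (fun d => δP (h d)) δP A z * ((AlgebraicCycle.mapCoeff p δP δ z : ℕ) : ℤ)) =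
    ∑ᶠ y ∈ (h ≫ p) ⁻¹' {x}, A y * ((AlgebraicCycle.mapCoeff (h ≫ p) (fun d => δP (h d)) δ y : ℕ) : ℤ)
  have e : ∀ y, AlgebraicCycle.mapCoeff (h ≫ p) (fun d => δP (h d)) δ y = AlgebraicCycle.mapCoeff p δP δ (h y) := fun y => by
    unfold AlgebraicCycle.mapCoeff
    refine if_congr Iff.rfl ?_ rfl
    rw [Groth.L22.Cyc.residueDegree_comp, Groth.L22.Cyc.residueDegree_eq_one h y
      (Groth.L22.Cyc.residueFieldMap_bijective' h y), mul_one]
  simp only [e]
  refine Eq.trans ?_ (finsum_mem_congr rfl fun y _ => ?_)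
    (b := ∑ᶠ y ∈ (h ≫ p) ⁻¹' {x}, pushC h (fun d => δP (h d)) δP A (h y) * ((AlgebraicCycle.mapCoeff p δP δ (h y) : ℕ) : ℤ))
  · rw [← finsum_mem_image (g := ⇑h) (f := fun z => pushC h (fun d => δP (h d)) δP A z *
      ((AlgebraicCycle.mapCoeff p δP δ z : ℕ) : ℤ)) (fun a _ b _ e' => h.isClosedEmbedding.injective e')]
    refine finsum_mem_inter_support_eq _ _ _ (Set.ext fun z => ⟨fun ⟨hz, hne⟩ => ⟨?_, hne⟩, fun ⟨hz, hne⟩ => ⟨?_, hne⟩⟩)
    · obtain ⟨y, rfl⟩ : z ∈ Set.range h := by_contra fun hz' => hne (by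
        show _ * _ = (0 : ℤ)
        rw [pushC_outside h δP A hz', zero_mul])
      exact ⟨y, hz, rfl⟩
    · obtain ⟨y, hy, rfl⟩ := hz
      exact hy
  · rw [pushC_apply_closed]

end Closed

section Bundle

variable {X P : Scheme.{u}} [IsLocallyNoetherian X] [IsLocallyNoetherian P] {δ : X → ℤ} {δP : P → ℤ}
  {p : P ⟶ X} [IsProper p] [Flat p] {E : X.Modules} {O1 : P.Modules}
  {q : (Scheme.Modules.pullback p).obj E ⟶ O1} {n : ℕ} (hX : Cyc.IsSetup X δ) (hPs : Cyc.IsSetup P δP)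
  (hc : Cyc.DeltaCompat p δP δ) (hPB : KRR.IsProjBundle p E O1 q)
  (hE : FlatMod.IsFinLocFreeOfRank (n + 1) E) (hL : PicF.IsInvertible O1) (hs : Shift p δP δ (n : ℤ))

include hPB hE hc in
/-- Every class is a combination of powers of the tautological class. -/
theorem exists_span (y : Tot P δP) : ∃ a : Fin (n + 1) → Tot X δ,
    y = ∑ i : Fin (n + 1), (x1 hPs.2.2 hL ^ (i : ℕ)) (pb hX.2.2 hPs.2.2 p hs (a i)) := by
  induction y using DirectSum.induction_on with
  | zero => exact ⟨fun _ => 0, by simp⟩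
  | add u v hu hv =>
    obtain ⟨a, rfl⟩ := hu
    obtain ⟨b, rfl⟩ := hv
    exact ⟨a + b, by simp [Finset.sum_add_distrib]⟩
  | of K z =>
    obtain ⟨⟨B, hB⟩, rfl⟩ := QuotientAddGroup.mk'_surjective (ChowOps.ratTriv P δP K) z
    have he : emb δP K B = DirectSum.of (fun k => ChowOps.CH P δP k) K
        (QuotientAddGroup.mk' (ChowOps.ratTriv P δP K) ⟨B, hB⟩) := emb_def hB
    rw [← he]
    have ht : ∀ (i : Fin (n + 1)) (m : ℕ) ξ, (fun (_ : Fin (n + 1)) (_ : ℕ) => sec hL) i m ξ ≠ 0 :=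
      fun _ _ => sec_ne hL
    have hB' : B ∈ Cyc.Zk P δP (K - n + n) := by rwa [sub_add_cancel]
    obtain ⟨α, β', a1, a2, a3⟩ := Groth.L22.Bundle.span hPB hE hX.2.2 hPs.2.2 hc hL (K - n) _ ht B hB'
    refine ⟨fun i => emb δ (K - n + ((i : ℕ) : ℤ)) (α i), ?_⟩
    have hm : ∀ i : Fin (n + 1), pw hPs.2.2 hL (sec_ne hL) (i : ℕ) (pullC p hs (α i)) ∈ Cyc.Zk P δP K := fun i => by
      have := pw_mem hPs.2.2 hL (sec_ne hL) (pullC_mem p hs (a1 i)) (i : ℕ)
      rwa [show K - n + ((i : ℕ) : ℤ) + n - ((i : ℕ) : ℤ) = K by ring] at this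
    have hβ : β' = ∑ i : Fin (n + 1), pw hPs.2.2 hL (sec_ne hL) (i : ℕ) (pullC p hs (α i)) := by
      ext z
      rw [a2, Groth.L22.Chern.sum_apply]
      exact Finset.sum_congr rfl fun i _ => by rw [pw, cap_coe, pullC_coe]
    rw [sub_add_cancel] at a3
    rw [emb_eq hPs.2.2 hB ((ChowOps.zk P δP K).sum_mem fun i _ => hm i) (hβ ▸ a3), emb_sum _ fun i _ => hm i]
    refine Finset.sum_congr rfl fun i _ => ?_
    rw [pb_emb _ _ p hs (a1 i), x1_pow_emb hPs hL (pullC_mem p hs (a1 i)) (i : ℕ),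
      show K - n + ((i : ℕ) : ℤ) + n - ((i : ℕ) : ℤ) = K by ring]

include hPB hE hc hs in
/-- A class whose twisted push-forwards vanish is zero. -/
theorem eq_zero_of_push (y : Tot P δP) (h : ∀ m, m ≤ n → pfT hX.2.2 hPs.2.2 p hc ((x1 hPs.2.2 hL ^ m) y) = 0) :
    y = 0 := by
  obtain ⟨a, rfl⟩ := exists_span hX hPs hc hPB hE hL hs y
  have key : ∀ j : ℕ, ∀ i : Fin (n + 1), n ≤ (i : ℕ) + j → a i = 0 := by
    intro j
    induction j with
    | zero =>
      intro i hi
      have h0 := h 0 (Nat.zero_le _)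
      rw [pow_zero] at h0
      change pfT hX.2.2 hPs.2.2 p hc (∑ i : Fin (n + 1), (x1 hPs.2.2 hL ^ (i : ℕ)) (pb hX.2.2 hPs.2.2 p hs (a i))) = 0 at h0
      rw [map_sum, Finset.sum_eq_single i (fun l _ hl => ?_) (fun h' => absurd (Finset.mem_univ i) h')] at h0
      · rw [← seg_apply hX hPs hc hL hs, seg_low hX hPs hc hPB hE hL hs (by omega), if_pos (by omega)] at h0
        exact h0
      · have : (l : ℕ) ≠ n := fun e => hl (Fin.ext (by omega))
        rw [← seg_apply hX hPs hc hL hs, seg_low hX hPs hc hPB hE hL hs (by omega), if_neg this]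
        rfl
    | succ j ih =>
      intro i hi
      by_cases hij : n ≤ (i : ℕ) + j
      · exact ih i hij
      have h0 := h (j + 1) (by omega)
      rw [map_sum, map_sum, Finset.sum_eq_single i (fun l _ hl => ?_) (fun h' => absurd (Finset.mem_univ i) h')] at h0
      · change pfT hX.2.2 hPs.2.2 p hc ((x1 hPs.2.2 hL ^ (j + 1) * x1 hPs.2.2 hL ^ (i : ℕ))
          (pb hX.2.2 hPs.2.2 p hs (a i))) = 0 at h0
        rw [← pow_add, ← seg_apply hX hPs hc hL hs, seg_low hX hPs hc hPB hE hL hs (by omega), if_pos (by omega)] at h0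
        exact h0
      · by_cases hl' : n ≤ (l : ℕ) + j
        · rw [ih l hl']
          simp
        · have : j + 1 + (l : ℕ) ≠ n := fun e => hl (Fin.ext (by omega))
          change pfT hX.2.2 hPs.2.2 p hc ((x1 hPs.2.2 hL ^ (j + 1) * x1 hPs.2.2 hL ^ (l : ℕ))
            (pb hX.2.2 hPs.2.2 p hs (a l))) = 0
          rw [← pow_add, ← seg_apply hX hPs hc hL hs, seg_low hX hPs hc hPB hE hL hs (by omega), if_neg this]
          rfl
  simp [key n _ (Nat.le_add_left _ _)]

/-- The series of the operators of the bundle. -/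
def sSer : PowerSeries (Op X δ) :=
  PowerSeries.mk fun i => ((-1 : ℤ) ^ i) • seg hX hPs hc hL hs (n + i)

/-- The series of Chern classes. -/
def cSer {r : ℕ} {F : X.Modules} (hF : FlatMod.IsFinLocFreeOfRank r F) : PowerSeries (Op X δ) :=
  PowerSeries.mk fun i => C hX hF i

include hPB in
theorem sSer_mul : sSer hX hPs hc hL hs * cSer hX hE = 1 := by
  refine PowerSeries.ext fun m => DFunLike.ext _ _ fun x => ?_
  rw [PowerSeries.coeff_mul, PowerSeries.coeff_one]
  simp only [sSer, cSer, PowerSeries.coeff_mk]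
  rw [Finset.Nat.sum_antidiagonal_eq_sum_range_succ
    (fun i j => (((-1 : ℤ) ^ i) • seg hX hPs hc hL hs (n + i)) * C hX hE j) m]
  refine (AddMonoidHom.finsetSum_apply _ _ _).trans ?_
  rcases Nat.eq_zero_or_pos m with rfl | hm
  · simp [seg_low hX hPs hc hPB hE hL hs (le_refl n), C_zero]
    rfl
  · rw [if_neg (Nat.pos_iff_ne_zero.1 hm)]
    exact seg_rel hX hPs hc hPB hE hL hs hm x

theorem cSer_comm {d : ℕ} (hr : Cyc.HasRelDim p d) (hdn : d = n) {r : ℕ} {F : X.Modules}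
    (hF : FlatMod.IsFinLocFreeOfRank r F) :
    cSer hX hF * sSer hX hPs hc hL hs = sSer hX hPs hc hL hs * cSer hX hF := by
  refine PowerSeries.ext fun m => ?_
  rw [PowerSeries.coeff_mul, PowerSeries.coeff_mul]
  refine Finset.sum_nbij' Prod.swap Prod.swap (fun z hz => ?_) (fun z hz => ?_) (fun _ _ => Prod.swap_swap _) (fun _ _ => Prod.swap_swap _) fun z _ => ?_
  · simp_all [add_comm]
  · simp_all [add_comm]
  simp only [sSer, cSer, PowerSeries.coeff_mk, Prod.fst_swap, Prod.snd_swap]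
  refine DFunLike.ext _ _ fun x => ?_
  show C hX hF z.1 (((-1 : ℤ) ^ z.2) • seg hX hPs hc hL hs (n + z.2) x) =
    ((-1 : ℤ) ^ z.2) • seg hX hPs hc hL hs (n + z.2) (C hX hF z.1 x)
  rw [map_zsmul, C_seg hX hPs hc hL hs hr hdn hF]

end Bundle

end Groth.L22.SubBundle
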